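import Groth.Agent.SwanPic.Local
import Groth.Agent.InvUfdLib.Extend
import Groth.Agent.InvX.Pullback
import Groth.Agent.InvX.GenLocusPull
import Groth.Agent.PicClLib.Basic
import Mathlib.AlgebraicGeometry.AffineSpace
import Mathlib.AlgebraicGeometry.Restrict

/-!
# Invertible modules on the affine line over a seminormal integral scheme come from the base
-/

set_option autoImplicit false
set_option maxHeartbeats 1000000
set_option linter.style.haveILetI false
set_option backward.isDefEq.respectTransparency false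
set_option backward.isDefEq.respectTransparency.types false

universe u

open CategoryTheory CategoryTheory.Limits AlgebraicGeometry TopologicalSpace Opposite

noncomputable section

namespace Groth.Agent.SwanPic

open Groth.Agent.AModX Groth.Agent.InvX

variable {X Y : Scheme.{u}} (pr : Y ⟶ X) (s : X ⟶ Y) (hs : s ≫ pr = 𝟙 X)

include hs in
theorem preimage_preimage (U : X.Opens) : s ⁻¹ᵁ pr ⁻¹ᵁ U = U := by
  rw [← Scheme.Hom.comp_preimage, hs]; rfl

include hs in
/-- Descent along a morphism with a section through which all units factor. -/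
theorem nonempty_iso_of_units {ι : Type u} (U : ι → X.Opens) (hcov : ∀ x, ∃ a, x ∈ U a)
    (hu : ∀ a b (g : Γ(Y, pr ⁻¹ᵁ (U a ⊓ U b))), IsUnit g → ∃ r, pr.app (U a ⊓ U b) r = g)
    (L : Y.Modules) (e : ∀ a, Γ(L, pr ⁻¹ᵁ U a)) (he : ∀ a, IsFrame (e a)) :
    Nonempty (L ≅ (Scheme.Modules.pullback pr).obj ((Scheme.Modules.pullback s).obj L)) := by
  let V : ι → Y.Opens := fun a => pr ⁻¹ᵁ U a
  have hle : ∀ a, U a ≤ s ⁻¹ᵁ pr ⁻¹ᵁ U a := fun a => (preimage_preimage pr s hs (U a)).ge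
  let q : ∀ a, Γ(((Scheme.Modules.pullback s).obj L), U a) := fun a => res ((Scheme.Modules.pullback s).obj L) (hle a) (pullElt s (e a))
  have hq : ∀ a, IsFrame (q a) := fun a => (isFrame_pullElt s (he a)).res (hle a)
  let n : ∀ a, Γ(((Scheme.Modules.pullback pr).obj ((Scheme.Modules.pullback s).obj L)), V a) := fun a => pullElt pr (q a)
  have hn : ∀ a, IsFrame (n a) := fun a => isFrame_pullElt pr (hq a)
  have hVcov : ∀ y : Y, ∃ a, y ∈ V a := fun y => hcov (pr y)
  -- the transition functions agree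
  have key : ∀ a b, ∃ g : Γ(Y, pr ⁻¹ᵁ (U a ⊓ U b)),
      res L (pr.preimage_mono inf_le_right) (e b) = g • res L (pr.preimage_mono inf_le_left) (e a) ∧
      res ((Scheme.Modules.pullback pr).obj ((Scheme.Modules.pullback s).obj L)) (pr.preimage_mono inf_le_right) (n b) = g • res ((Scheme.Modules.pullback pr).obj ((Scheme.Modules.pullback s).obj L)) (pr.preimage_mono inf_le_left) (n a) := by
    intro a b
    obtain ⟨g, hg⟩ := (he a).exists_coord (pr.preimage_mono inf_le_left : pr ⁻¹ᵁ (U a ⊓ U b) ≤ pr ⁻¹ᵁ U a)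
      (res L (pr.preimage_mono inf_le_right) (e b))
    obtain ⟨g', hg'⟩ := (he b).exists_coord (pr.preimage_mono inf_le_right : pr ⁻¹ᵁ (U a ⊓ U b) ≤ pr ⁻¹ᵁ U b)
      (res L (pr.preimage_mono inf_le_left) (e a))
    have hunit : IsUnit g := IsUnit.of_mul_eq_one g' ((he b).coord_unique (pr.preimage_mono inf_le_right) (by
      rw [mul_smul, ← hg', ← hg, one_smul]))
    obtain ⟨r, rfl⟩ := hu a b g hunit
    refine ⟨_, hg, ?_⟩
    have hle2 : U a ⊓ U b ≤ s ⁻¹ᵁ pr ⁻¹ᵁ (U a ⊓ U b) := (preimage_preimage pr s hs _).ge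
    have h1 : res ((Scheme.Modules.pullback s).obj L) inf_le_right (q b) =
        resR hle2 (s.app _ (pr.app (U a ⊓ U b) r)) • res ((Scheme.Modules.pullback s).obj L) inf_le_left (q a) := by
      have h0 := congrArg (fun t => res ((Scheme.Modules.pullback s).obj L) hle2 (pullElt s t)) hg
      simp only [pullElt_smul, res_smul, ← res_pullElt, res_res] at h0
      simp only [q, res_res]
      exact h0
    have h2 : resR hle2 (s.app _ (pr.app (U a ⊓ U b) r)) = r := by
      have h4 : ∀ (φ : X ⟶ X) (hφ : φ = 𝟙 X) (h : U a ⊓ U b ≤ φ ⁻¹ᵁ (U a ⊓ U b)),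
          resR h (φ.app (U a ⊓ U b) r) = r := by
        rintro φ rfl h
        exact AModX.resR_self _
      have h5 := h4 (s ≫ pr) hs (preimage_preimage pr s hs _).ge
      rw [Scheme.Hom.comp_app] at h5
      exact h5
    rw [h2] at h1
    have h3 := congrArg (pullElt pr) h1
    simp only [pullElt_smul, ← res_pullElt] at h3
    simp only [n]
    exact h3
  have hc : ∀ (a b : ι) (W : Y.Opens) (ha : W ≤ V a) (hb : W ≤ V b) (g : Γ(Y, W)),
      res L hb (e b) = g • res L ha (e a) → res ((Scheme.Modules.pullback pr).obj ((Scheme.Modules.pullback s).obj L)) hb (n b) = g • res ((Scheme.Modules.pullback pr).obj ((Scheme.Modules.pullback s).obj L)) ha (n a) := by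
    intro a b W ha hb g hg
    obtain ⟨G, hG, hG'⟩ := key a b
    have hW : W ≤ pr ⁻¹ᵁ (U a ⊓ U b) := fun y hy => ⟨ha hy, hb hy⟩
    have h1 := congrArg (res L hW) hG
    have h2 := congrArg (res ((Scheme.Modules.pullback pr).obj ((Scheme.Modules.pullback s).obj L)) hW) hG'
    simp only [res_smul, res_res] at h1 h2
    have : g = resR hW G := (he a).coord_unique ha (hg.symm.trans h1)
    rw [this]
    exact h2
  have hc' : ∀ (a b : ι) (W : Y.Opens) (ha : W ≤ V a) (hb : W ≤ V b) (g : Γ(Y, W)),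
      res ((Scheme.Modules.pullback pr).obj ((Scheme.Modules.pullback s).obj L)) hb (n b) = g • res ((Scheme.Modules.pullback pr).obj ((Scheme.Modules.pullback s).obj L)) ha (n a) → res L hb (e b) = g • res L ha (e a) := by
    intro a b W ha hb g hg
    obtain ⟨G, hG, hG'⟩ := key a b
    have hW : W ≤ pr ⁻¹ᵁ (U a ⊓ U b) := fun y hy => ⟨ha hy, hb hy⟩
    have h1 := congrArg (res L hW) hG
    have h2 := congrArg (res ((Scheme.Modules.pullback pr).obj ((Scheme.Modules.pullback s).obj L)) hW) hG'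
    simp only [res_smul, res_res] at h1 h2
    have : g = resR hW G := (hn a).coord_unique ha (hg.symm.trans h2)
    rw [this]
    exact h1
  let φ : L ⟶ ((Scheme.Modules.pullback pr).obj ((Scheme.Modules.pullback s).obj L)) := ofFrames (U := V) (e := e) (n := n) hVcov he hc
  let ψ : ((Scheme.Modules.pullback pr).obj ((Scheme.Modules.pullback s).obj L)) ⟶ L := ofFrames (U := V) (e := n) (n := e) hVcov hn hc'
  have hφ : ∀ a, φ.app (V a) (e a) = n a := fun a => ofFrames_app (U := V) (e := e) (n := n) _ _ _ a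
  have hψ : ∀ a, ψ.app (V a) (n a) = e a := fun a => ofFrames_app (U := V) (e := n) (n := e) _ _ _ a
  refine ⟨⟨φ, ψ, hom_ext_of_frames V hVcov e he fun a => ?_, hom_ext_of_frames V hVcov n hn fun a => ?_⟩⟩
  · show ψ.app (V a) (φ.app (V a) (e a)) = e a
    rw [hφ, hψ]
  · show φ.app (V a) (ψ.app (V a) (n a)) = n a
    rw [hψ, hφ]

variable {k : Type u} [CommRing k] (f : X ⟶ Spec (CommRingCat.of k))


/-- A line chart over an affine open of the base. -/
theorem exists_chart {W : X.Opens} (hW : IsAffineOpen W) :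
    ∃ e : Spec (CommRingCat.of (Polynomial Γ(X, W))) ⟶ pullback f (𝔸(PUnit.{u + 1}; Spec (CommRingCat.of k)) ↘ Spec (CommRingCat.of k)),
      IsOpenImmersion e ∧ e ≫ pullback.fst f _ = Spec.map (CommRingCat.ofHom Polynomial.C) ≫ hW.fromSpec ∧
      Set.range e.base = (pullback.fst f (𝔸(PUnit.{u + 1}; Spec (CommRingCat.of k)) ↘ Spec (CommRingCat.of k))).base ⁻¹' W := by
  let R := Γ(X, W)
  let g : Spec R ⟶ X := hW.fromSpec
  let u₀ : 𝔸(PUnit.{u + 1}; Spec R) ⟶ pullback f (𝔸(PUnit.{u + 1}; Spec (CommRingCat.of k)) ↘ Spec (CommRingCat.of k)) :=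
    pullback.lift (𝔸(PUnit.{u + 1}; Spec R) ↘ Spec R ≫ g) (AffineSpace.map PUnit.{u + 1} (g ≫ f))
      (by rw [AffineSpace.map_over, Category.assoc])
  have hu₀ : IsPullback u₀ (𝔸(PUnit.{u + 1}; Spec R) ↘ Spec R) (pullback.fst f _) g := by
    refine IsPullback.of_right ?_ (pullback.lift_fst _ _ _) (IsPullback.of_hasPullback f (𝔸(PUnit.{u + 1}; Spec (CommRingCat.of k)) ↘ _)).flip
    rw [pullback.lift_snd]
    exact AffineSpace.isPullback_map _
  let σ : Spec (CommRingCat.of (Polynomial R)) ≅ Spec (CommRingCat.of (MvPolynomial PUnit.{u + 1} R)) :=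
    Scheme.Spec.mapIso (MvPolynomial.uniqueAlgEquiv R PUnit.{u + 1}).toRingEquiv.toCommRingCatIso.op
  refine ⟨σ.hom ≫ (AffineSpace.SpecIso PUnit.{u + 1} R).inv ≫ u₀, ?_, ?_, ?_⟩
  · haveI : IsOpenImmersion u₀ := MorphismProperty.of_isPullback (P := @IsOpenImmersion) hu₀.flip inferInstance
    infer_instance
  · rw [Category.assoc, Category.assoc, hu₀.w, AffineSpace.SpecIso_inv_over_assoc]
    rw [← Category.assoc]
    congr 1
    show Spec.map _ ≫ Spec.map _ = _
    rw [← Spec.map_comp]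
    congr 1
    ext1
    exact RingHom.ext fun r => (MvPolynomial.uniqueAlgEquiv R PUnit.{u + 1}).commutes r
  · haveI : IsOpenImmersion u₀ := MorphismProperty.of_isPullback (P := @IsOpenImmersion) hu₀.flip inferInstance
    rw [← Scheme.Hom.coe_opensRange, Scheme.Hom.opensRange_comp_of_isIso σ.hom, Scheme.Hom.opensRange_comp_of_isIso]
    show Set.range u₀.base = (pullback.fst f _).base ⁻¹' (W : Set X)
    rw [← hW.range_fromSpec]
    rw [← hu₀.isoPullback_hom_fst]
    refine Eq.trans ?_ (Scheme.Pullback.range_fst (pullback.fst f _) g)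
    rw [Scheme.Hom.comp_base, TopCat.coe_comp, Set.range_comp]
    have hs' : Set.range hu₀.isoPullback.hom.base = Set.univ :=
      Set.range_eq_univ.2 hu₀.isoPullback.hom.homeomorph.surjective
    rw [hs', Set.image_univ]

variable [IsIntegral X] (hX : HTop.IsSeminormal X)

include hX in
/-- Invertible modules on the affine line over a seminormal integral scheme come from the base. -/
theorem nonempty_iso_pullback (σ₀ : X ⟶ pullback f (𝔸(PUnit.{u + 1}; Spec (CommRingCat.of k)) ↘ Spec (CommRingCat.of k)))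
    (hσ : σ₀ ≫ pullback.fst f _ = 𝟙 X) (L : (pullback f (𝔸(PUnit.{u + 1}; Spec (CommRingCat.of k)) ↘ Spec (CommRingCat.of k))).Modules)
    (hL : PicF.IsInvertible L) :
    Nonempty (L ≅ (Scheme.Modules.pullback (pullback.fst f _)).obj ((Scheme.Modules.pullback σ₀).obj L)) := by
  classical
  let pr := pullback.fst f (𝔸(PUnit.{u + 1}; Spec (CommRingCat.of k)) ↘ Spec (CommRingCat.of k))
  let ι : Type u := {U : X.Opens // IsAffineOpen U ∧ Nonempty U ∧
    ∃ e : Γ(L, pr ⁻¹ᵁ U), IsFrame e}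
  have hcov : ∀ x : X, ∃ a : ι, x ∈ a.1 := by
    intro x
    obtain ⟨W, hxW, hWs⟩ := hX x
    haveI : Nonempty W.1 := ⟨⟨x, hxW⟩⟩
    haveI : IsDomain Γ(X, W.1) := inferInstance
    obtain ⟨e, heo, he1, he2'⟩ := exists_chart f W.2
    haveI := heo
    have he2 : e.opensRange = pr ⁻¹ᵁ W.1 := TopologicalSpace.Opens.ext he2'
    obtain ⟨y, rfl⟩ : ∃ y, W.2.fromSpec y = x := by
      have : x ∈ Set.range W.2.fromSpec := by rw [W.2.range_fromSpec]; exact hxW
      exact this
    obtain ⟨h, hy, fr, hfr⟩ := exists_frame_above Γ(X, W.1) hWs ((Scheme.Modules.pullback e).obj L)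
      (PicClLib.isInvertible_pullback e hL) y
    let φ := ((Scheme.Modules.restrictFunctorIsoPullback e).app L).inv
    let U : X.Opens := X.basicOpen h
    have hUW : U ≤ W.1 := X.basicOpen_le h
    have hpre : W.2.fromSpec ⁻¹ᵁ U = PrimeSpectrum.basicOpen h := W.2.fromSpec_preimage_basicOpen h
    have hD : e ⁻¹ᵁ pr ⁻¹ᵁ U = PrimeSpectrum.basicOpen (Polynomial.C h : Polynomial Γ(X, W.1)) := by
      rw [← Scheme.Hom.comp_preimage, he1, Scheme.Hom.comp_preimage, hpre]
      rfl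
    have himg : e ''ᵁ (PrimeSpectrum.basicOpen (Polynomial.C h : Polynomial Γ(X, W.1)) :
        (Spec (CommRingCat.of (Polynomial Γ(X, W.1)))).Opens) = pr ⁻¹ᵁ U := by
      rw [← hD, Scheme.Hom.image_preimage_eq_opensRange_inf, he2]
      exact inf_eq_right.2 (pr.preimage_mono hUW)
    have hf2 := InvUfdLib.isFrame_of_restrict e (InvX.IsFrame.map_iso
      ((Scheme.Modules.restrictFunctorIsoPullback e).app L).symm hfr)
    exact ⟨⟨U, W.2.basicOpen h, ⟨⟨_, show W.2.fromSpec y ∈ U from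
      (show y ∈ W.2.fromSpec ⁻¹ᵁ U by rw [hpre]; exact hy)⟩⟩, _, hf2.res himg.ge⟩,
      (show y ∈ W.2.fromSpec ⁻¹ᵁ U by rw [hpre]; exact hy)⟩
  refine nonempty_iso_of_units pr σ₀ hσ (fun a : ι => a.1) hcov (fun a b g hg => ?_) L
    (fun a => a.2.2.2.choose) (fun a => a.2.2.2.choose_spec)
  -- units on the preimage are constant: check locally
  have hloc : ∀ (V : X.Opens) (hV : IsAffineOpen V) [Nonempty V] (g : Γ(pullback f (𝔸(PUnit.{u + 1}; Spec (CommRingCat.of k)) ↘ _), pr ⁻¹ᵁ V)),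
      IsUnit g → ∃ r, pr.app V r = g := by
    intro V hV _ g hg
    obtain ⟨e, heo, he1, he2'⟩ := exists_chart f hV
    haveI := heo
    have he2 : e.opensRange = pr ⁻¹ᵁ V := TopologicalSpace.Opens.ext he2'
    let ev : Γ(pullback f (𝔸(PUnit.{u + 1}; Spec (CommRingCat.of k)) ↘ _), pr ⁻¹ᵁ V) ⟶ CommRingCat.of (Polynomial Γ(X, V)) :=
      e.appLE (pr ⁻¹ᵁ V) ⊤ (by
        intro z _
        show e z ∈ pr ⁻¹ᵁ V
        rw [← he2]
        exact ⟨z, rfl⟩) ≫ (Scheme.ΓSpecIso _).hom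
    haveI : IsIso ev := by
      haveI : IsIso (e.appLE (pr ⁻¹ᵁ V) ⊤ (by
          intro z _
          show e z ∈ pr ⁻¹ᵁ V
          rw [← he2]
          exact ⟨z, rfl⟩)) := by
        haveI := e.isIso_app (pr ⁻¹ᵁ V) (he2 ▸ le_rfl)
        have htop : e ⁻¹ᵁ pr ⁻¹ᵁ V = ⊤ := by rw [← he2]; exact e.preimage_opensRange
        rw [Scheme.Hom.appLE]
        haveI : IsIso (homOfLE (htop.ge : (⊤ : (Spec (CommRingCat.of (Polynomial Γ(X, V)))).Opens) ≤ e ⁻¹ᵁ pr ⁻¹ᵁ V)) :=
          ⟨homOfLE htop.le, Subsingleton.elim _ _, Subsingleton.elim _ _⟩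
        infer_instance
      infer_instance
    have hev : Function.Bijective ev := ConcreteCategory.bijective_of_isIso ev
    obtain ⟨r, -, hr⟩ := Polynomial.isUnit_iff.1 (hg.map ev.hom)
    refine ⟨r, hev.1 (Eq.trans ?_ hr)⟩
    show (e.appLE (pr ⁻¹ᵁ V) ⊤ _ ≫ (Scheme.ΓSpecIso _).hom) (pr.app V r) = Polynomial.C r
    have key : ∀ (φ : Spec (CommRingCat.of (Polynomial Γ(X, V))) ⟶ X), e ≫ pr = φ →
        ∀ (h : ⊤ ≤ φ ⁻¹ᵁ V) (h' : ⊤ ≤ e ⁻¹ᵁ pr ⁻¹ᵁ V),
        pr.app V ≫ e.appLE (pr ⁻¹ᵁ V) ⊤ h' = φ.appLE V ⊤ h := by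
      rintro φ rfl h h'
      rw [← Scheme.Hom.appLE_eq_app, Scheme.Hom.appLE_comp_appLE]
    rw [← CommRingCat.comp_apply, ← Category.assoc]
    rw [key _ he1 (fun z _ => by
      show hV.fromSpec _ ∈ V
      exact (Set.ext_iff.1 hV.range_fromSpec _).1 ⟨_, rfl⟩)]
    rw [Scheme.Hom.comp_appLE, hV.fromSpec_app_self]
    simp only [Category.assoc, Scheme.Hom.map_appLE_assoc]
    rw [show ((Spec.map (CommRingCat.ofHom (Polynomial.C (R := Γ(X, V))))).appLE ⊤ ⊤ (by simp)) =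
      (Spec.map (CommRingCat.ofHom (Polynomial.C (R := Γ(X, V))))).appTop from Scheme.Hom.appLE_eq_app _,
      Scheme.ΓSpecIso_naturality]
    show ((Scheme.ΓSpecIso Γ(X, V)).inv ≫ (Scheme.ΓSpecIso Γ(X, V)).hom ≫
      CommRingCat.ofHom (Polynomial.C (R := Γ(X, V)))) r = _
    rw [Iso.inv_hom_id_assoc]
    rfl
  -- glue over a nonempty affine cover
  obtain ⟨x₀⟩ : Nonempty (a.1 ⊓ b.1 : X.Opens) := by
    obtain ⟨z, hz⟩ := nonempty_preirreducible_inter a.1.2 b.1.2 (by
      obtain ⟨⟨z, hz⟩⟩ := a.2.2.1; exact ⟨z, hz⟩) (by obtain ⟨⟨z, hz⟩⟩ := b.2.2.1; exact ⟨z, hz⟩)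
    exact ⟨⟨z, hz⟩⟩
  let J : Type u := {V : X.Opens // IsAffineOpen V ∧ V ≤ a.1 ⊓ b.1 ∧ Nonempty V}
  have hJ : ∀ x ∈ a.1 ⊓ b.1, ∃ V : J, x ∈ V.1 := fun x hx => by
    obtain ⟨V, hV, hxV, hVab⟩ := exists_isAffineOpen_mem_and_subset hx
    exact ⟨⟨V, hV, hVab, ⟨⟨x, hxV⟩⟩⟩, hxV⟩
  have hr : ∀ V : J, ∃ r, pr.app V.1 r = resR (pr.preimage_mono V.2.2.1) g := fun V => by
    haveI := V.2.2.2
    exact hloc V.1 V.2.1 _ (hg.map _)
  choose r hr using hr
  have hinj : ∀ (V : X.Opens) (p q : Γ(X, V)), pr.app V p = pr.app V q → p = q := by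
    intro V p q hpq
    have hle : V ≤ σ₀ ⁻¹ᵁ pr ⁻¹ᵁ V := (preimage_preimage pr σ₀ hσ _).ge
    have h4 : ∀ (φ : X ⟶ X) (hφ : φ = 𝟙 X) (h : V ≤ φ ⁻¹ᵁ V) (t : Γ(X, V)), resR h (φ.app V t) = t := by
      rintro φ rfl h t
      exact AModX.resR_self _
    have := congrArg (fun t => resR hle (σ₀.app _ t)) hpq
    exact (h4 (σ₀ ≫ pr) hσ hle p).symm.trans (this.trans (h4 (σ₀ ≫ pr) hσ hle q))
  have hnat : ∀ {V V' : X.Opens} (h : V' ≤ V) (t : Γ(X, V)),
      pr.app V' (resR h t) = resR (pr.preimage_mono h) (pr.app V t) := fun h t =>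
    ConcreteCategory.congr_hom (pr.naturality (homOfLE h).op) t
  obtain ⟨R, hR, -⟩ := existsUnique_glue (M := Coh.structureModule X) (V := a.1 ⊓ b.1) (fun V : J => V.1)
    (fun V => V.2.2.1) hJ r fun V V' => by
      show resR inf_le_left (r V) = resR inf_le_right (r V')
      apply hinj
      rw [hnat, hnat, hr, hr, resR_resR, resR_resR]
  refine ⟨R, eq_of_locally (M := Coh.structureModule _) _ _ fun y hy => ?_⟩
  obtain ⟨V, hV⟩ := hJ (pr y) hy
  refine ⟨pr ⁻¹ᵁ V.1, pr.preimage_mono V.2.2.1, hV, ?_⟩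
  show resR _ (pr.app _ R) = resR _ g
  rw [← hr V, ← hnat V.2.2.1]
  exact congrArg (pr.app V.1) (hR V)

end Groth.Agent.SwanPic
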