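import Groth.Agent.SwanPic.Ring
import Groth.Agent.InvUfdLib.Trivial
import Groth.Agent.HTopAwn.Props

/-!
# Invertible modules on the affine line over a seminormal domain are trivial locally on the base
-/

set_option autoImplicit false
set_option linter.style.haveILetI false
set_option backward.isDefEq.respectTransparency false
set_option backward.isDefEq.respectTransparency.types false

universe u

open CategoryTheory AlgebraicGeometry TopologicalSpace Opposite Polynomial

noncomputable section

namespace Groth.Agent.SwanPic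

open Groth.Agent.AModX Groth.Agent.InvX Groth.Agent.InvUfdLib

/-- A split of a rank one idempotent, away from a function not vanishing at a given prime. -/
theorem exists_split_away (A : Type u) [CommRing A] [IsDomain A] (hA : HTop.IsSeminormalRing A) (x : Ideal A)
    [x.IsPrime] {N : ℕ} (P : Fin N → Fin N → A[X]) (hrel : ∀ a b c d, P a b * P c d = P a d * P c b)
    (htr : ∑ j, P j j = 1) :
    ∃ h ∉ x, ∃ (m : ℕ) (V W : Fin N → A[X]), ∀ a b, Polynomial.C (h ^ m) * P a b = V a * W b := by
  classical
  obtain ⟨a₀, ha₀⟩ : ∃ a, (P a a).coeff 0 ∉ x := by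
    by_contra! hc
    have h1 : (∑ j, P j j).coeff 0 ∈ x := by
      rw [Polynomial.finsetSum_coeff]; exact x.sum_mem fun j _ => hc j
    rw [htr, Polynomial.coeff_one_zero] at h1
    exact Ideal.IsPrime.one_notMem ‹_› h1
  let h := (P a₀ a₀).coeff 0
  have hh0 : h ≠ 0 := fun e => ha₀ (by rw [show (P a₀ a₀).coeff 0 = 0 from e]; exact x.zero_mem)
  have hle : Submonoid.powers h ≤ nonZeroDivisors A :=
    powers_le_nonZeroDivisors_of_noZeroDivisors hh0
  haveI : IsDomain (Localization.Away h) := IsLocalization.isDomain_localization hle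
  let φ := algebraMap A (Localization.Away h)
  have hφ : Function.Injective φ := IsLocalization.injective (Localization.Away h) hle
  obtain ⟨v, w, hvw⟩ := exists_split_near (HTopAwn.seminormal_away h hA) (fun a b => (P a b).map φ)
    (fun a b c d => by rw [← Polynomial.map_mul, ← Polynomial.map_mul, hrel])
    (by rw [← Polynomial.map_sum, htr, Polynomial.map_one]) a₀
    (by rw [Polynomial.coeff_map]; exact IsLocalization.Away.algebraMap_isUnit h)
  have hclear : ∀ p : (Localization.Away h)[X], ∃ (n : ℕ) (q : A[X]), q.map φ = Polynomial.C (φ h ^ n) * p := by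
    intro p
    induction p using Polynomial.induction_on' with
    | add p q hp hq =>
      obtain ⟨m, p', hp⟩ := hp
      obtain ⟨n, q', hq⟩ := hq
      refine ⟨m + n, Polynomial.C (h ^ n) * p' + Polynomial.C (h ^ m) * q', ?_⟩
      rw [Polynomial.map_add, Polynomial.map_mul, Polynomial.map_mul, Polynomial.map_C, Polynomial.map_C, hp, hq]
      simp only [map_pow]
      ring
    | monomial k a =>
      obtain ⟨n, r, hr⟩ := IsLocalization.Away.surj h a
      refine ⟨n, Polynomial.monomial k r, ?_⟩
      rw [Polynomial.map_monomial, Polynomial.C_mul_monomial, ← hr, mul_comm a]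
  choose nv V hV using fun a => hclear (v a)
  choose nw W hW using fun b => hclear (w b)
  let n₁ := Finset.univ.sup nv
  let n₂ := Finset.univ.sup nw
  refine ⟨h, ha₀, n₁ + n₂, fun a => Polynomial.C (h ^ (n₁ - nv a)) * V a,
    fun b => Polynomial.C (h ^ (n₂ - nw b)) * W b, fun a b => Polynomial.map_injective φ hφ ?_⟩
  simp only [Polynomial.map_mul, Polynomial.map_pow, Polynomial.map_C, hV, hW, map_pow]
  rw [← mul_assoc (Polynomial.C (φ h) ^ (n₁ - nv a)), ← mul_assoc (Polynomial.C (φ h) ^ (n₂ - nw b)),
    ← pow_add, ← pow_add, Nat.sub_add_cancel (Finset.le_sup (Finset.mem_univ a)),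
    Nat.sub_add_cancel (Finset.le_sup (Finset.mem_univ b)), mul_mul_mul_comm, ← pow_add, hvw]

variable (R : CommRingCat.{u}) [IsDomain R]

local notation "η" => genericPoint (Spec R)

set_option maxHeartbeats 1000000 in
/-- An invertible module on an affine integral scheme is described by a rank one idempotent; it has a frame wherever
the idempotent splits. -/
theorem exists_idempotent (L : (Spec R).Modules) (hL : PicF.IsInvertible L) :
    ∃ (N : ℕ) (P : Fin N → Fin N → R), (∀ a b c d, P a b * P c d = P a d * P c b) ∧ ∑ j, P j j = 1 ∧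
      ∀ (H : R) (m : ℕ) (V W : Fin N → R), H ≠ 0 → (∀ a b, H ^ m * P a b = V a * W b) →
        ∃ e : Γ(L, (PrimeSpectrum.basicOpen H : (Spec R).Opens)), IsFrame e := by
  classical
  let D : R → (Spec R).Opens := fun f => PrimeSpectrum.basicOpen f
  let ι' : Type u := {f : R // f ≠ 0 ∧ ∃ e : Γ(L, D f), IsFrame e}
  have hcov : ∀ y : PrimeSpectrum R, ∃ i : ι', y ∈ PrimeSpectrum.basicOpen i.1 := by
    intro y
    obtain ⟨V, hyV, e, he⟩ := exists_frame hL (y : Spec R)
    obtain ⟨_, ⟨_, ⟨f, rfl⟩, rfl⟩, hyf, hfV⟩ := PrimeSpectrum.isBasis_basic_opens.exists_subset_of_mem_open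
      hyV V.isOpen
    refine ⟨⟨f, fun h => ?_, res L (show D f ≤ V from hfV) e, he.res _⟩, hyf⟩
    subst h; simp at hyf
  obtain ⟨t, ht⟩ := isCompact_univ.elim_finite_subcover (fun i : ι' => (PrimeSpectrum.basicOpen i.1 :
    Set (PrimeSpectrum R))) (fun i => (PrimeSpectrum.basicOpen i.1).isOpen)
    (fun y _ => Set.mem_iUnion.2 (hcov y))
  let N := t.card
  let idx : Fin N → ι' := fun i => (t.equivFin.symm i).1
  let f : Fin N → R := fun i => (idx i).1
  have hf : ∀ i, f i ≠ 0 := fun i => (idx i).2.1
  choose e he using fun i => (idx i).2.2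
  have hspan : Ideal.span (Set.range f) = ⊤ := by
    rw [← PrimeSpectrum.iSup_basicOpen_eq_top_iff, eq_top_iff]
    intro y _
    obtain ⟨i, hi, hy⟩ : ∃ i ∈ t, y ∈ PrimeSpectrum.basicOpen i.1 := by
      simpa using ht (Set.mem_univ y)
    refine Opens.mem_iSup.2 ⟨t.equivFin ⟨i, hi⟩, ?_⟩
    show y ∈ PrimeSpectrum.basicOpen (idx _).1
    simpa [idx] using hy
  let W2 : Fin N → Fin N → (Spec R).Opens := fun i j => D (f i * f j)
  have hW2l : ∀ i j, W2 i j ≤ D (f i) := fun i j => PrimeSpectrum.basicOpen_mul_le_left _ _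
  have hW2r : ∀ i j, W2 i j ≤ D (f j) := fun i j => PrimeSpectrum.basicOpen_mul_le_right _ _
  choose g hg using fun i j => (he j).exists_coord (hW2r i j) (res L (hW2l i j) (e i))
  have hη : ∀ i j, η ∈ W2 i j := fun i j => generic_mem_basicOpen (mul_ne_zero (hf i) (hf j))
  let U : Fin N → Fin N → (Spec R).functionField := fun i j =>
    (Spec R).presheaf.germ (W2 i j) η (hη i j) (g i j)
  have hgerm : ∀ {V V' : (Spec R).Opens} (hle : V' ≤ V) (hV' : η ∈ V') (s : Γ(Spec R, V)),
      (Spec R).presheaf.germ V' η hV' (resR hle s) = (Spec R).presheaf.germ V η (hle hV') s :=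
    fun hle hV' s => (Spec R).presheaf.germ_res_apply (homOfLE hle) η hV' s
  have hU : ∀ i j k, U i k = U i j * U j k := by
    intro i j k
    let V : (Spec R).Opens := D (f i * f j * f k)
    have hij : V ≤ W2 i j := PrimeSpectrum.basicOpen_mul_le_left _ _
    have hik : V ≤ W2 i k := by
      show PrimeSpectrum.basicOpen _ ≤ PrimeSpectrum.basicOpen _
      rw [show f i * f j * f k = f i * f k * f j by ring]
      exact PrimeSpectrum.basicOpen_mul_le_left _ _
    have hjk : V ≤ W2 j k := by
      show PrimeSpectrum.basicOpen _ ≤ PrimeSpectrum.basicOpen _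
      rw [show f i * f j * f k = f j * f k * f i by ring]
      exact PrimeSpectrum.basicOpen_mul_le_left _ _
    have hV : η ∈ V := generic_mem_basicOpen (mul_ne_zero (mul_ne_zero (hf i) (hf j)) (hf k))
    have h : resR hik (g i k) = resR hij (g i j) * resR hjk (g j k) := by
      refine (he k).coord_unique (hik.trans (hW2r i k)) ?_
      have h1 := congrArg (res L hik) (hg i k)
      have h2 := congrArg (res L hij) (hg i j)
      have h3 := congrArg (res L hjk) (hg j k)
      simp only [res_smul, res_res] at h1 h2 h3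
      rw [← h1, mul_smul, ← h3, ← h2]
    have := congrArg ((Spec R).presheaf.germ V η hV) h
    rw [map_mul, hgerm hik hV, hgerm hij hV, hgerm hjk hV] at this
    exact this
  have hU1 : ∀ i, U i i = 1 := fun i => by
    have : g i i = 1 := (he i).coord_unique (hW2r i i) (by rw [one_smul]; exact (hg i i).symm)
    show (Spec R).presheaf.germ (W2 i i) η (hη i i) (g i i) = 1
    rw [this, map_one]
  let al : R →+* (Spec R).functionField := algebraMap R (Spec R).functionField
  have hal : Function.Injective al := IsFractionRing.injective R (Spec R).functionField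
  have hsur : ∀ i j, ∃ (n : ℕ) (r : R), al r = al (f i * f j) ^ n * U i j := fun i j => by
    obtain ⟨n, r, hr⟩ := IsLocalization.Away.surj (S := Γ(Spec R, W2 i j)) (f i * f j : R) (g i j)
    refine ⟨n, r, ?_⟩
    have := congrArg ((Spec R).presheaf.germ (W2 i j) η (hη i j)) hr
    simp only [map_mul, map_pow, germ_algebraMap] at this
    show al r = _
    rw [mul_comm, map_mul]
    exact this.symm
  choose nn r hr using hsur
  let n : ℕ := Finset.univ.sup fun p : Fin N × Fin N => nn p.1 p.2
  let b : Fin N → Fin N → R := fun i j => (f i * f j) ^ (n - nn i j) * r i j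
  have hb : ∀ i j, al (b i j) = al (f i) ^ n * al (f j) ^ n * U i j := fun i j => by
    have hle : nn i j ≤ n := Finset.le_sup (f := fun p : Fin N × Fin N => nn p.1 p.2) (Finset.mem_univ (i, j))
    simp only [b, map_mul, map_pow, hr, ← mul_assoc, ← mul_pow, ← pow_add, Nat.sub_add_cancel hle]
  obtain ⟨c, hc⟩ : ∃ c : Fin N → R, ∑ i, c i * f i ^ (2 * n) = 1 := by
    have h1 : (1 : R) ∈ Ideal.span (Set.range fun i => f i ^ (2 * n)) := by
      rw [show (Ideal.span (Set.range fun i => f i ^ (2 * n))) = ⊤ by
        rw [show (Set.range fun i => f i ^ (2 * n)) = (fun p => p ^ (2 * n)) '' Set.range f from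
          (Set.range_comp _ f)]
        exact Ideal.span_pow_eq_top _ hspan _]
      trivial
    exact (Ideal.mem_span_range_iff_exists_fun).1 h1
  let P : Fin N → Fin N → R := fun i j => b i j * c j
  have hbb : ∀ i j k l, b i j * b k l = b i l * b k j := fun i j k l => hal (by
    simp only [map_mul, hb]
    rw [hU i l j, hU k j l]
    have : U l j * U j l = 1 := by rw [← hU, hU1]
    linear_combination (al (f i) ^ n * al (f j) ^ n * al (f k) ^ n * al (f l) ^ n * U i l * U k j) * this)
  have hbii : ∀ i, b i i = f i ^ (2 * n) := fun i => hal (by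
    rw [hb, hU1, map_pow, mul_one, ← pow_add, two_mul])
  refine ⟨N, P, fun i j k l => by simp only [P]; linear_combination (c j * c l) * hbb i j k l,
    by rw [← hc]; exact Finset.sum_congr rfl fun j _ => by simp only [P, hbii, mul_comm],
    fun H m V W hH0 hVW => ?_⟩
  let S : Fin N → R := fun i => ∑ k, W k * b k i
  have hSV : ∀ i, S i * V i = H ^ m * f i ^ (2 * n) := fun i => by
    calc S i * V i = ∑ k, V i * W k * b k i := by
          rw [Finset.sum_mul]; exact Finset.sum_congr rfl fun k _ => by ring
      _ = ∑ k, H ^ m * f i ^ (2 * n) * (c k * f k ^ (2 * n)) :=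
          Finset.sum_congr rfl fun k _ => by
            rw [← hVW, ← hbii i, ← hbii k]
            simp only [P]
            linear_combination (H ^ m * c k) * hbb i k k i
      _ = _ := by rw [← Finset.mul_sum, hc, mul_one]
  have hS : ∀ i j, al (S i) * U i j * al (f j) ^ n = al (S j) * al (f i) ^ n := fun i j => by
    simp only [S, map_sum, map_mul, hb, Finset.sum_mul]
    exact Finset.sum_congr rfl fun k _ => by rw [hU k i j]; ring
  let E : (Spec R).Opens := D (H)
  let Wi : Fin N → (Spec R).Opens := fun i => D (H * f i)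
  have hWl : ∀ i, Wi i ≤ E := fun i => PrimeSpectrum.basicOpen_mul_le_left _ _
  have hWr : ∀ i, Wi i ≤ D (f i) := fun i => PrimeSpectrum.basicOpen_mul_le_right _ _
  have hunit : ∀ i, IsUnit (algebraMap R Γ(Spec R, Wi i) (S i)) ∧
      IsUnit (algebraMap R Γ(Spec R, Wi i) (f i ^ n)) := fun i => by
    let am := algebraMap R Γ(Spec R, Wi i)
    have hu : IsUnit (am (H * f i : R)) :=
      IsLocalization.Away.algebraMap_isUnit (S := Γ(Spec R, Wi i)) (H * f i : R)
    rw [map_mul] at hu
    have h1 := isUnit_of_mul_isUnit_left hu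
    have h2 := isUnit_of_mul_isUnit_right hu
    refine ⟨?_, by rw [map_pow]; exact h2.pow n⟩
    refine isUnit_of_mul_isUnit_left (y := am (V i)) ?_
    rw [← map_mul, hSV i, map_mul, map_pow, map_pow]
    exact (h1.pow m).mul (h2.pow (2 * n))
  let coef : ∀ i, Γ(Spec R, Wi i) := fun i =>
    algebraMap R Γ(Spec R, Wi i) (S i) * ↑((hunit i).2.unit⁻¹)
  have hcoef : ∀ i, IsUnit (coef i) := fun i => (hunit i).1.mul (Units.isUnit _)
  have hηi : ∀ i, η ∈ Wi i := fun i => generic_mem_basicOpen (mul_ne_zero hH0 (hf i))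
  have hcg : ∀ i, (Spec R).presheaf.germ (Wi i) η (hηi i) (coef i) * al (f i) ^ n = al (S i) := fun i => by
    have h1 : coef i * algebraMap R Γ(Spec R, Wi i) (f i ^ n) =
        algebraMap R Γ(Spec R, Wi i) (S i) := by
      simp only [coef]
      rw [mul_assoc, IsUnit.val_inv_mul, mul_one]
    have := congrArg ((Spec R).presheaf.germ (Wi i) η (hηi i)) h1
    rw [map_mul, germ_algebraMap, germ_algebraMap] at this
    rw [← map_pow]
    exact this
  have hglue : ∀ i j, res L inf_le_left (coef i • res L (hWr i) (e i)) =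
      res L (inf_le_right : Wi i ⊓ Wi j ≤ Wi j) (coef j • res L (hWr j) (e j)) := by
    intro i j
    have hle : Wi i ⊓ Wi j ≤ W2 i j := by
      intro y hy
      show y ∈ PrimeSpectrum.basicOpen (f i * f j)
      rw [PrimeSpectrum.basicOpen_mul]
      exact ⟨hWr i hy.1, hWr j hy.2⟩
    have h1 := congrArg (res L hle) (hg i j)
    simp only [res_smul, res_res] at h1 ⊢
    rw [h1, ← mul_smul]
    congr 1
    haveI : IsIntegral (Spec R) := inferInstance
    have hη' : η ∈ Wi i ⊓ Wi j := ⟨hηi i, hηi j⟩
    apply germ_injective_of_isIntegral (X := Spec R) η hη'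
    show (Spec R).presheaf.germ _ η hη' _ = (Spec R).presheaf.germ _ η hη' _
    rw [map_mul, hgerm _ hη', hgerm _ hη', hgerm _ hη']
    apply mul_right_cancel₀ (b := al (f i) ^ n * al (f j) ^ n)
      (mul_ne_zero (pow_ne_zero _ fun z => hf i (hal (z.trans (map_zero al).symm)))
        (pow_ne_zero _ fun z => hf j (hal (z.trans (map_zero al).symm))))
    have e1 := hcg i
    have e2 := hcg j
    have e3 := hS i j
    linear_combination (U i j * al (f j) ^ n) * e1 + e3 - (al (f i) ^ n) * e2
  have hcovE : ∀ y ∈ E, ∃ i : ULift.{u} (Fin N), y ∈ Wi i.down := fun y hy => by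
    obtain ⟨i, hi⟩ : ∃ i, y ∈ D (f i) := by
      have h1 : y ∈ (⨆ i, PrimeSpectrum.basicOpen (f i) : Opens (PrimeSpectrum R)) := by
        rw [PrimeSpectrum.iSup_basicOpen_eq_top_iff.2 hspan]; trivial
      exact Opens.mem_iSup.1 h1
    refine ⟨⟨i⟩, ?_⟩
    show y ∈ PrimeSpectrum.basicOpen (H * f i)
    rw [PrimeSpectrum.basicOpen_mul]
    exact ⟨hy, hi⟩
  obtain ⟨s, hs, -⟩ := existsUnique_glue (M := L) (V := E) (fun i : ULift.{u} (Fin N) => Wi i.down)
    (fun i => hWl i.down) hcovE (fun i => coef i.down • res L (hWr i.down) (e i.down))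
    (fun i j => hglue i.down j.down)
  exact ⟨s, isFrame_of_cover (fun i : ULift.{u} (Fin N) => Wi i.down) (fun i => hWl i.down) hcovE s
    fun i => hs i ▸ ((he i.down).res (hWr i.down)).isUnit_smul (hcoef i.down)⟩

/-- An invertible module on the affine line over a seminormal domain has a frame over a neighbourhood of each
point of the base. -/
theorem exists_frame_above (A : CommRingCat.{u}) [IsDomain A] (hA : HTop.IsSeminormalRing A)
    (L : (Spec (CommRingCat.of (Polynomial A))).Modules) (hL : PicF.IsInvertible L) (x : PrimeSpectrum A) :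
    ∃ (h : A), x ∈ PrimeSpectrum.basicOpen h ∧
      ∃ e : Γ(L, (PrimeSpectrum.basicOpen (Polynomial.C h : Polynomial A) :
        (Spec (CommRingCat.of (Polynomial A))).Opens)), IsFrame e := by
  haveI : IsDomain (CommRingCat.of (Polynomial A)) := inferInstanceAs (IsDomain (Polynomial A))
  obtain ⟨N, P, hrel, htr, key⟩ := exists_idempotent (CommRingCat.of (Polynomial A)) L hL
  obtain ⟨h, hh, m, V, W, hVW⟩ := exists_split_away A hA x.asIdeal P hrel htr
  refine ⟨h, hh, key (Polynomial.C h : Polynomial A) m V W ?_ fun a b => ?_⟩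
  · exact fun e => hh ((Polynomial.C_eq_zero.1 e) ▸ x.asIdeal.zero_mem)
  · exact (congrArg (· * P a b) (map_pow Polynomial.C h m).symm).trans (hVW a b)

end Groth.Agent.SwanPic
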