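import Groth.Agent.PicPoly.ProdVal
import Groth.Prelude.Def_HTop2
import Mathlib.RingTheory.Valuation.LocalSubring
import Mathlib.RingTheory.Polynomial.Nilpotent
import Mathlib.RingTheory.Ideal.MinimalPrime.Basic
import Mathlib.RingTheory.Ideal.MinimalPrime.Localization
import Mathlib.RingTheory.IntegralClosure.IsIntegralClosure.Basic
import Mathlib.RingTheory.Localization.FractionRing
import Mathlib.RingTheory.LocalProperties.Reduced

/-!
# Rank one idempotents over a polynomial ring over a seminormal domain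

If the products `v_a w_b` have coefficients in a seminormal domain `R`, `Σ v_j w_j = 1`, and some `v` and some `w`
have constant coefficient one, then all `v_a` have coefficients in `R` (Swan).
-/

set_option autoImplicit false
set_option linter.style.haveILetI false

universe u

open Polynomial

noncomputable section

namespace Groth.Agent.SwanPic

variable {R K : Type u} [CommRing R] [IsDomain R] [Field K] [Algebra R K]

/-- Gauss: the first coefficient of maximal value. -/
theorem exists_first_max {Γ₀ : Type*} [LinearOrderedCommGroupWithZero Γ₀] (ν : Valuation K Γ₀) (p : K[X])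
    (hp : p ≠ 0) :
    ∃ i, ν (p.coeff i) ≠ 0 ∧ (∀ n, ν (p.coeff n) ≤ ν (p.coeff i)) ∧ ∀ n < i, ν (p.coeff n) < ν (p.coeff i) := by
  classical
  obtain ⟨i₀, hi₀, hmax⟩ := p.support.exists_max_image (fun n => ν (p.coeff n)) (Polynomial.nonempty_support_iff.2 hp)
  have hmax' : ∀ n, ν (p.coeff n) ≤ ν (p.coeff i₀) := fun n => by
    by_cases h : n ∈ p.support
    · exact hmax n h
    · rw [Polynomial.notMem_support_iff.1 h, map_zero]; exact zero_le
  have hex : ∃ i, ν (p.coeff i) = ν (p.coeff i₀) := ⟨i₀, rfl⟩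
  refine ⟨Nat.find hex, ?_, fun n => (hmax' n).trans_eq (Nat.find_spec hex).symm, fun n hn => ?_⟩
  · rw [Nat.find_spec hex]
    exact (ν.ne_zero_iff).2 (Polynomial.mem_support_iff.1 hi₀)
  · rw [Nat.find_spec hex]
    exact lt_of_le_of_ne (hmax' n) (Nat.find_min hex hn)

/-- Gauss' lemma for a valuation. -/
theorem val_coeff_le {Γ₀ : Type*} [LinearOrderedCommGroupWithZero Γ₀] (ν : Valuation K Γ₀) (p q : K[X])
    (hpq : ∀ n, ν ((p * q).coeff n) ≤ 1) (hq : ∃ j, 1 ≤ ν (q.coeff j)) (n : ℕ) : ν (p.coeff n) ≤ 1 := by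
  classical
  rcases eq_or_ne p 0 with rfl | hp
  · simp
  obtain ⟨i, hi0, hi, hi'⟩ := exists_first_max ν p hp
  obtain ⟨j₀, hj₀⟩ := hq
  have hq0 : q ≠ 0 := by rintro rfl; simp at hj₀
  obtain ⟨j, hj0, hj, hj'⟩ := exists_first_max ν q hq0
  have hkey : ν ((p * q).coeff (i + j)) = ν (p.coeff i) * ν (q.coeff j) := by
    rw [Polynomial.coeff_mul]
    rw [ν.map_sum_eq_of_lt (j := (i, j)) (by simp) ?_]
    · rw [map_mul]
    · rintro ⟨a, b⟩ hab
      simp only [Finset.mem_sdiff, Finset.mem_antidiagonal, Finset.mem_singleton] at hab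
      obtain ⟨hab, hne⟩ := hab
      simp only [map_mul]
      rcases lt_trichotomy a i with h | h | h
      · exact mul_lt_mul_of_lt_of_le_of_nonneg_of_pos (hi' a h) (hj b) zero_le (zero_lt_iff.2 hj0)
      · exact absurd (Prod.ext h (by omega)) hne
      · exact mul_lt_mul_of_le_of_lt_of_nonneg_of_pos (hi a) (hj' b (by omega)) zero_le (zero_lt_iff.2 hi0)
  have h1 : ν (p.coeff i) * ν (q.coeff j) ≤ 1 := hkey ▸ hpq _
  calc ν (p.coeff n) ≤ ν (p.coeff i) := hi n
    _ = ν (p.coeff i) * 1 := (mul_one _).symm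
    _ ≤ ν (p.coeff i) * ν (q.coeff j) := mul_le_mul' le_rfl (hj₀.trans (hj j₀))
    _ ≤ 1 := h1

omit [IsDomain R] in
/-- Coefficients are integral over the ring containing the coefficients of the product. -/
theorem isIntegral_coeff (p q : K[X]) (hpq : ∀ n, (p * q).coeff n ∈ (algebraMap R K).range)
    (hq : q.coeff 0 = 1) (n : ℕ) : IsIntegral R (p.coeff n) := by
  have h : p.coeff n ∈ (⨅ V : {V : ValuationSubring K // ((algebraMap R K).range : Set K) ⊆ V.toSubring},
      V.1.toSubring) := by
    rw [Subring.mem_iInf]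
    intro V
    refine (V.1.valuation_le_one_iff _).1 ?_
    refine val_coeff_le V.1.valuation p q (fun m => (V.1.valuation_le_one_iff _).2 (V.2 (hpq m))) ⟨0, ?_⟩ n
    rw [hq, map_one]
  rw [iInf_valuationSubring_superset, Subring.closure_eq] at h
  obtain ⟨f, hf, hfe⟩ := h
  obtain ⟨g, hg, -, hgm⟩ := Polynomial.lifts_and_degree_eq_and_monic (p := f.map (algebraMap (algebraMap R K).range K))
    (f := algebraMap R K) ((Polynomial.lifts_iff_coeff_lifts _).2 fun m => by
      obtain ⟨r, hr⟩ := (f.coeff m).2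
      exact ⟨r, by rw [hr, Polynomial.coeff_map]; rfl⟩) (hf.map _)
  refine ⟨g, hgm, ?_⟩
  rw [← Polynomial.eval_map, hg, Polynomial.eval_map]
  exact hfe

/-- Splitting of a rank one idempotent over a polynomial ring in one variable over a field. -/
theorem exists_split_field {k : Type u} [Field k] {N : ℕ} (P : Fin N → Fin N → k[X])
    (hrel : ∀ a b c d, P a b * P c d = P a d * P c b) (htr : ∑ j, P j j = 1) :
    ∃ v w : Fin N → k[X], ∀ a b, P a b = v a * w b := by
  let e := MvPolynomial.uniqueAlgEquiv k PUnit.{1}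
  obtain ⟨v, w, h⟩ := PicPoly.exists_split k (fun a b => e.symm (P a b))
    (fun a b c d => by rw [← map_mul, ← map_mul, hrel]) (by rw [← map_sum, htr, map_one])
  exact ⟨fun a => e (v a), fun b => e (w b), fun a b => by rw [← map_mul, ← h, AlgEquiv.apply_symm_apply]⟩

/-- The coefficients of a normalised splitting over a reduced algebra over a field lie in that field. -/
theorem mem_range_of_reduced {k Tp : Type u} [Field k] [CommRing Tp] [IsReduced Tp] (ι : k →+* Tp) {N : ℕ}
    (V W : Fin N → Tp[X]) (v' w' : Fin N → k[X]) (hVW : ∀ a b, V a * W b = (v' a).map ι * (w' b).map ι)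
    (h1 : ∑ j, V j * W j = 1) (a₀ : Fin N) (hv : (V a₀).coeff 0 = 1) (j : Fin N) (m : ℕ) :
    (V j).coeff m ∈ ι.range ∧ (W j).coeff m ∈ ι.range := by
  let V' : Fin N → Tp[X] := fun i => (v' i).map ι
  let W' : Fin N → Tp[X] := fun i => (w' i).map ι
  replace hVW : ∀ a b, V a * W b = V' a * W' b := hVW
  let lam := ∑ i, V i * W' i
  let mu := ∑ i, W i * V' i
  have hV : ∀ i, V i = V' i * lam := fun i => by
    calc V i = V i * ∑ j, V j * W j := by rw [h1, mul_one]
      _ = ∑ j, (V i * W j) * V j := by rw [Finset.mul_sum]; exact Finset.sum_congr rfl fun j _ => by ring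
      _ = ∑ j, (V' i * W' j) * V j := Finset.sum_congr rfl fun j _ => by rw [hVW]
      _ = V' i * lam := by rw [Finset.mul_sum]; exact Finset.sum_congr rfl fun j _ => by ring
  have hW : ∀ i, W i = W' i * mu := fun i => by
    calc W i = W i * ∑ j, V j * W j := by rw [h1, mul_one]
      _ = ∑ j, (V j * W i) * W j := by rw [Finset.mul_sum]; exact Finset.sum_congr rfl fun j _ => by ring
      _ = ∑ j, (V' j * W' i) * W j := Finset.sum_congr rfl fun j _ => by rw [hVW]
      _ = W' i * mu := by rw [Finset.mul_sum]; exact Finset.sum_congr rfl fun j _ => by ring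
  have h1' : ∑ i, V' i * W' i = 1 := by rw [← h1]; exact Finset.sum_congr rfl fun i _ => (hVW i i).symm
  have hlm : lam * mu = 1 := by
    calc lam * mu = (∑ i, V' i * W' i) * (lam * mu) := by rw [h1', one_mul]
      _ = ∑ i, V i * W i := by
        rw [Finset.sum_mul]; exact Finset.sum_congr rfl fun i _ => by rw [hV i, hW i]; ring
      _ = 1 := h1
  have hconst : ∀ {f g : Tp[X]}, f * g = 1 → f = Polynomial.C (f.coeff 0) := fun {f g} h => by
    refine Polynomial.ext fun n => ?_
    rcases n with _ | n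
    · rw [Polynomial.coeff_C_zero]
    · rw [Polynomial.coeff_C_succ]
      exact IsReduced.eq_zero _ (((Polynomial.isUnit_iff_coeff_isUnit_isNilpotent).1 (IsUnit.of_mul_eq_one _ h)).2 _
        n.succ_ne_zero)
  have h10 : (1 : Tp) = ι ((v' a₀).coeff 0) * lam.coeff 0 := by
    rw [← hv, hV a₀, Polynomial.mul_coeff_zero, Polynomial.coeff_map]
  have h2 : lam.coeff 0 * mu.coeff 0 = 1 := by rw [← Polynomial.mul_coeff_zero, hlm, Polynomial.coeff_one_zero]
  have hl : lam.coeff 0 ∈ ι.range ∧ mu.coeff 0 ∈ ι.range := by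
    rcases eq_or_ne ((v' a₀).coeff 0) 0 with h0 | h0
    · have h01 : (1 : Tp) = 0 := by rw [h10, h0, map_zero, zero_mul]
      haveI : Subsingleton Tp := subsingleton_of_zero_eq_one h01.symm
      exact ⟨⟨0, Subsingleton.elim _ _⟩, ⟨0, Subsingleton.elim _ _⟩⟩
    · refine ⟨⟨((v' a₀).coeff 0)⁻¹, ?_⟩, ⟨(v' a₀).coeff 0, ?_⟩⟩
      · calc ι ((v' a₀).coeff 0)⁻¹ = ι ((v' a₀).coeff 0)⁻¹ * (ι ((v' a₀).coeff 0) * lam.coeff 0) := by
              rw [← h10, mul_one]
          _ = lam.coeff 0 := by rw [← mul_assoc, ← map_mul, inv_mul_cancel₀ h0, map_one, one_mul]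
      · calc ι ((v' a₀).coeff 0) = ι ((v' a₀).coeff 0) * (lam.coeff 0 * mu.coeff 0) := by rw [h2, mul_one]
          _ = mu.coeff 0 := by rw [← mul_assoc, ← h10, one_mul]
  constructor
  · rw [hV j, hconst hlm, Polynomial.coeff_mul_C, Polynomial.coeff_map]
    exact ι.range.mul_mem ⟨_, rfl⟩ hl.1
  · rw [hW j, hconst ((mul_comm mu lam).trans hlm), Polynomial.coeff_mul_C, Polynomial.coeff_map]
    exact ι.range.mul_mem ⟨_, rfl⟩ hl.2

/-- Splitting modulo a radical ideal, near a minimal prime of its trace on `R`. -/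
theorem exists_clear {R S : Type u} [CommRing R] [CommRing S] [Algebra R S] (C : Ideal S) (hrad : C.IsRadical)
    (p : Ideal R) [p.IsPrime] (hp : p ∈ (C.comap (algebraMap R S)).minimalPrimes) {N : ℕ} (v w : Fin N → S[X])
    (P : Fin N → Fin N → R[X]) (hPS : ∀ a b, (P a b).map (algebraMap R S) = v a * w b)
    (hrel : ∀ a b c d, P a b * P c d = P a d * P c b) (htr : ∑ j, P j j = 1) (a₀ : Fin N) (hv : (v a₀).coeff 0 = 1)
    (s : S) (hs : s ∈ Algebra.adjoin R {x : S | ∃ j m, (v j).coeff m = x ∨ (w j).coeff m = x}) :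
    ∃ d ∈ p.primeCompl, ∃ r : R, algebraMap R S d * s - algebraMap R S r ∈ C := by
  haveI : IsReduced (S ⧸ C) := (Ideal.isRadical_iff_quotient_reduced C).1 hrad
  let q : R →+* S ⧸ C := (Ideal.Quotient.mk C).comp (algebraMap R S)
  let M : Submonoid (S ⧸ C) := p.primeCompl.map q.toMonoidHom
  haveI : IsReduced (Localization M) := isReduced_localizationPreserves M _ inferInstance
  let π : S →+* Localization M := (algebraMap (S ⧸ C) (Localization M)).comp (Ideal.Quotient.mk C)
  let ψ : R →+* Localization M := π.comp (algebraMap R S)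
  have hψu : ∀ x ∈ p.primeCompl, IsUnit (ψ x) := fun x hx =>
    IsLocalization.map_units (M := M) (Localization M) ⟨q x, ⟨x, hx, rfl⟩⟩
  have hψp : ∀ y ∈ p, ψ y = 0 := fun y hy => by
    have h1 : algebraMap R (Localization.AtPrime p) y ∈
        ((C.comap (algebraMap R S)).map (algebraMap R (Localization.AtPrime p))).radical := by
      rw [IsLocalization.AtPrime.radical_map_of_mem_minimalPrimes (A := Localization.AtPrime p) (q := p) (hIq := hp)]
      exact Ideal.mem_map_of_mem _ hy
    obtain ⟨n, hn⟩ := h1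
    rw [← map_pow, IsLocalization.algebraMap_mem_map_algebraMap_iff p.primeCompl] at hn
    obtain ⟨x, hx, hm⟩ := hn
    have h0 : ψ x * ψ y ^ n = 0 := by
      rw [← map_pow, ← map_mul]
      show algebraMap (S ⧸ C) (Localization M) (Ideal.Quotient.mk C (algebraMap R S (x * y ^ n))) = 0
      rw [Ideal.Quotient.eq_zero_iff_mem.2 (Ideal.mem_comap.1 hm), map_zero]
    exact IsReduced.eq_zero _ ⟨n, ((hψu x hx).mul_right_eq_zero).1 h0⟩
  let k := FractionRing (R ⧸ p)
  let ψb : (R ⧸ p) →+* Localization M := Ideal.Quotient.lift p ψ hψp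
  have hψb : ∀ y : nonZeroDivisors (R ⧸ p), IsUnit (ψb y) := fun ⟨y, hy⟩ => by
    obtain ⟨x, rfl⟩ := Ideal.Quotient.mk_surjective y
    exact hψu x fun h => nonZeroDivisors.ne_zero hy (Ideal.Quotient.eq_zero_iff_mem.2 h)
  let ι : k →+* Localization M := IsLocalization.lift hψb
  let χ : R →+* k := (algebraMap (R ⧸ p) k).comp (Ideal.Quotient.mk p)
  have hιχ : ι.comp χ = ψ := RingHom.ext fun x => by
    show IsLocalization.lift hψb (algebraMap (R ⧸ p) k _) = _
    rw [IsLocalization.lift_eq]
    rfl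
  obtain ⟨v', w', hvw'⟩ := exists_split_field (fun a b => (P a b).map χ)
    (fun a b c d => by rw [← Polynomial.map_mul, ← Polynomial.map_mul, hrel])
    (by rw [← Polynomial.map_sum, htr, Polynomial.map_one])
  have key := mem_range_of_reduced ι (fun j => (v j).map π) (fun j => (w j).map π) v' w'
    (fun a b => by
      rw [← Polynomial.map_mul, ← Polynomial.map_mul, ← hPS, ← hvw', Polynomial.map_map, Polynomial.map_map, hιχ])
    (by
      rw [← Polynomial.map_one (S := Localization M) π, ← Polynomial.map_one (f := algebraMap R S), ← htr,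
        Polynomial.map_sum, Polynomial.map_sum]
      exact Finset.sum_congr rfl fun j _ => by rw [hPS, Polynomial.map_mul])
    a₀ (by rw [Polynomial.coeff_map, hv, map_one])
  have hgen : π s ∈ ι.range := by
    induction hs using Algebra.adjoin_induction with
    | mem x hx =>
      obtain ⟨j, m, hx | hx⟩ := hx
      · rw [← hx, ← Polynomial.coeff_map]; exact (key j m).1
      · rw [← hx, ← Polynomial.coeff_map]; exact (key j m).2
    | algebraMap r => exact ⟨χ r, RingHom.congr_fun hιχ r⟩
    | add x y hx hy h1 h2 => exact (map_add π x y) ▸ ι.range.add_mem h1 h2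
    | mul x y hx hy h1 h2 => exact (map_mul π x y) ▸ ι.range.mul_mem h1 h2
  obtain ⟨y, hy⟩ := hgen
  obtain ⟨r, d, hd, rfl⟩ := IsFractionRing.div_surjective (A := R ⧸ p) y
  obtain ⟨r, rfl⟩ := Ideal.Quotient.mk_surjective r
  obtain ⟨d, rfl⟩ := Ideal.Quotient.mk_surjective d
  have hdp : d ∈ p.primeCompl := fun h => nonZeroDivisors.ne_zero hd (Ideal.Quotient.eq_zero_iff_mem.2 h)
  have hne : χ d ≠ 0 := fun h => nonZeroDivisors.ne_zero hd (IsFractionRing.injective (R ⧸ p) k
    (h.trans (map_zero _).symm))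
  have h2 : π (algebraMap R S d * s) = π (algebraMap R S r) := by
    rw [map_mul, ← hy]
    show ψ d * ι (χ r / χ d) = ψ r
    clear_value χ
    rw [← hιχ, RingHom.comp_apply, RingHom.comp_apply, ← map_mul, mul_div_cancel₀ _ hne]
  obtain ⟨⟨_, d', hd', rfl⟩, hd''⟩ := (IsLocalization.eq_iff_exists M (Localization M)).1 h2
  refine ⟨d' * d, p.primeCompl.mul_mem hd' hdp, d' * r, ?_⟩
  rw [← Ideal.Quotient.eq_zero_iff_mem, map_sub, sub_eq_zero]
  simp only [map_mul, mul_assoc] at hd'' ⊢
  exact hd''

/-- **Swan's theorem**, in matrix form. -/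
theorem coeff_mem_range [IsFractionRing R K] (hR : HTop.IsSeminormalRing R) {N : ℕ} (v w : Fin N → K[X])
    (hP : ∀ a b n, (v a * w b).coeff n ∈ (algebraMap R K).range) (hsum : ∑ j, v j * w j = 1)
    (a₀ b₀ : Fin N) (hv : (v a₀).coeff 0 = 1) (hw : (w b₀).coeff 0 = 1) (a : Fin N) (n : ℕ) :
    (v a).coeff n ∈ (algebraMap R K).range := by
  classical
  let φ := algebraMap R K
  have hφ : Function.Injective φ := IsFractionRing.injective R K
  -- the finite birational extension
  let T : Set K := ⋃ j : Fin N, (↑((v j).coeffs) : Set K) ∪ ↑((w j).coeffs)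
  have hTint : ∀ x ∈ T, IsIntegral R x := by
    intro x hx
    obtain ⟨j, hj⟩ := Set.mem_iUnion.1 hx
    rcases hj with hj | hj
    · obtain ⟨m, -, rfl⟩ := Polynomial.mem_coeffs_iff.1 hj
      exact isIntegral_coeff (v j) (w b₀) (hP j b₀) hw m
    · obtain ⟨m, -, rfl⟩ := Polynomial.mem_coeffs_iff.1 hj
      exact isIntegral_coeff (w j) (v a₀) (fun m => by rw [mul_comm]; exact hP a₀ j m) hv m
  have hTfin : T.Finite := Set.finite_iUnion fun j => (Finset.finite_toSet _).union (Finset.finite_toSet _)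
  let S : Subalgebra R K := Algebra.adjoin R T
  have hSfg : S.toSubmodule.FG := fg_adjoin_of_finite hTfin hTint
  have hvS : ∀ j m, (v j).coeff m ∈ S := fun j m => by
    by_cases h : (v j).coeff m = 0
    · rw [h]; exact S.zero_mem
    · exact Algebra.subset_adjoin (Set.mem_iUnion.2 ⟨j, Or.inl (Polynomial.coeff_mem_coeffs h)⟩)
  have hwS : ∀ j m, (w j).coeff m ∈ S := fun j m => by
    by_cases h : (w j).coeff m = 0
    · rw [h]; exact S.zero_mem
    · exact Algebra.subset_adjoin (Set.mem_iUnion.2 ⟨j, Or.inr (Polynomial.coeff_mem_coeffs h)⟩)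
  suffices hall : ∀ s ∈ S, s ∈ φ.range from hall _ (hvS a n)
  -- the conductor
  let C : Ideal S :=
    { carrier := {s | ∀ y : S, ((s * y : S) : K) ∈ φ.range}
      add_mem' := fun {s t} hs ht y => by
        rw [add_mul, Subalgebra.coe_add]; exact φ.range.add_mem (hs y) (ht y)
      zero_mem' := fun y => by rw [zero_mul, ZeroMemClass.coe_zero]; exact φ.range.zero_mem
      smul_mem' := fun c s hs y => by
        rw [smul_eq_mul, mul_comm c s, mul_assoc]; exact hs (c * y) }
  have hrad : C.IsRadical := by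
    have hsq : ∀ s : S, s * s ∈ C → s ∈ C := fun s hs y => by
      let z : K := ((s * y : S) : K)
      have h2 : z ^ 2 ∈ φ.range := by
        have := hs (y * y)
        convert this using 1
        simp only [z, MulMemClass.coe_mul]; ring
      have h3 : z ^ 3 ∈ φ.range := by
        have := hs (s * (y * y * y))
        convert this using 1
        simp only [z, MulMemClass.coe_mul]; ring
      obtain ⟨x₂, hx₂⟩ := h2
      obtain ⟨x₃, hx₃⟩ := h3
      have hrel : x₂ ^ 3 = x₃ ^ 2 := hφ (by rw [map_pow, map_pow, hx₂, hx₃]; ring)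
      obtain ⟨r, ⟨hr2, hr3⟩, -⟩ := hR x₂ x₃ hrel
      refine ⟨r, ?_⟩
      show φ r = z
      rcases eq_or_ne z 0 with h0 | h0
      · rw [h0] at hx₂ ⊢
        have : φ r ^ 2 = 0 := by rw [← map_pow, ← hr2, hx₂]; simp
        simpa using this
      · have e2 : φ r ^ 2 = z ^ 2 := by rw [← map_pow, ← hr2, hx₂]
        have e3 : φ r ^ 3 = z ^ 3 := by rw [← map_pow, ← hr3, hx₃]
        have h1 : φ r * z ^ 2 = z * z ^ 2 := by
          calc φ r * z ^ 2 = φ r ^ 3 := by rw [← e2]; ring
            _ = z * z ^ 2 := by rw [e3]; ring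
        exact mul_right_cancel₀ (pow_ne_zero 2 h0) h1
    intro s ⟨m, hm⟩
    induction m using Nat.strong_induction_on with
    | _ m ih =>
      rcases Nat.lt_or_ge m 2 with h | h
      · interval_cases m
        · rw [pow_zero] at hm; simpa using C.mul_mem_right s hm
        · rwa [pow_one] at hm
      · refine ih ((m + 1) / 2) (by omega) (hsq _ ?_)
        rw [← pow_add]
        exact (show s ^ ((m + 1) / 2 + (m + 1) / 2) = s ^ m * s ^ ((m + 1) / 2 + (m + 1) / 2 - m) by
          rw [← pow_add]; congr 1; omega) ▸ C.mul_mem_right _ hm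
  let c : Ideal R := C.comap (algebraMap R S)
  by_cases hc : c = ⊤
  · intro s hs
    have h1 : (1 : R) ∈ c := hc ▸ trivial
    have h2 : algebraMap R S 1 ∈ C := h1
    rw [map_one] at h2
    simpa using h2 ⟨s, hs⟩
  exfalso
  obtain ⟨p, hp⟩ := Ideal.nonempty_minimalPrimes hc
  haveI : p.IsPrime := hp.1.1
  have hcp : c ≤ p := hp.1.2
  have hlift : ∀ f : K[X], (∀ m, f.coeff m ∈ S) → ∃ g : S[X], g.map S.val.toRingHom = f := fun f hf =>
    (Polynomial.mem_lifts f).1 ((Polynomial.lifts_iff_coeff_lifts (f := S.val.toRingHom) f).2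
      fun m => ⟨⟨_, hf m⟩, rfl⟩)
  choose vS hvS' using fun j => hlift (v j) (hvS j)
  choose wS hwS' using fun j => hlift (w j) (hwS j)
  have hliftR : ∀ a b, ∃ g : R[X], g.map φ = v a * w b := fun a b =>
    (Polynomial.mem_lifts _).1 ((Polynomial.lifts_iff_coeff_lifts _).2 fun m => hP a b m)
  choose P hP' using hliftR
  have hφinj : Function.Injective (Polynomial.map φ) := Polynomial.map_injective _ hφ
  have hSinj : Function.Injective (Polynomial.map S.val.toRingHom) :=
    Polynomial.map_injective _ Subtype.val_injective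
  have hPS : ∀ a b, (P a b).map (algebraMap R S) = vS a * wS b := fun a b => hSinj (by
    rw [Polynomial.map_map, Polynomial.map_mul, hvS', hwS', ← hP' a b]
    rfl)
  have htr : ∑ j, P j j = 1 := hφinj (by
    rw [Polynomial.map_sum, Polynomial.map_one, ← hsum]
    exact Finset.sum_congr rfl fun j _ => hP' j j)
  have hcv : ∀ j m, ((vS j).coeff m : K) = (v j).coeff m := fun j m => by
    rw [← hvS' j, Polynomial.coeff_map]; rfl
  have hcw : ∀ j m, ((wS j).coeff m : K) = (w j).coeff m := fun j m => by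
    rw [← hwS' j, Polynomial.coeff_map]; rfl
  have hclear : ∀ x ∈ S, ∃ d ∈ p.primeCompl, φ d * x ∈ φ.range := fun x hx => by
    have hmem : (⟨x, hx⟩ : S) ∈ Algebra.adjoin R {y : S | ∃ j m, (vS j).coeff m = y ∨ (wS j).coeff m = y} := by
      induction hx using Algebra.adjoin_induction with
      | mem y hy =>
        refine Algebra.subset_adjoin ?_
        obtain ⟨j, hj | hj⟩ := Set.mem_iUnion.1 hy
        · obtain ⟨m, -, hm⟩ := Polynomial.mem_coeffs_iff.1 hj
          exact ⟨j, m, Or.inl (Subtype.ext ((hcv j m).trans hm.symm))⟩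
        · obtain ⟨m, -, hm⟩ := Polynomial.mem_coeffs_iff.1 hj
          exact ⟨j, m, Or.inr (Subtype.ext ((hcw j m).trans hm.symm))⟩
      | algebraMap r => exact Subalgebra.algebraMap_mem _ r
      | add y z hy hz h1 h2 => exact Subalgebra.add_mem _ h1 h2
      | mul y z hy hz h1 h2 => exact Subalgebra.mul_mem _ h1 h2
    obtain ⟨d, hd, r, hr⟩ := exists_clear C hrad p hp vS wS P hPS
      (fun a b c d => hφinj (by simp only [Polynomial.map_mul, hP']; ring)) htr a₀
      (Subtype.ext ((hcv a₀ 0).trans hv)) ⟨x, hx⟩ hmem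
    refine ⟨d, hd, ?_⟩
    have h4 := hr 1
    simp only [mul_one, MulMemClass.coe_mul, AddSubgroupClass.coe_sub, Subalgebra.coe_algebraMap] at h4
    have : φ d * x = (φ d * x - φ r) + φ r := by ring
    rw [this]
    exact φ.range.add_mem h4 ⟨_, rfl⟩
  obtain ⟨G, hG⟩ := hSfg
  choose! D hD hD' using hclear
  have hGS : ∀ g ∈ G, g ∈ S := fun g hg => by
    rw [← Subalgebra.mem_toSubmodule, ← hG]; exact Submodule.subset_span hg
  have hX : ∀ x ∈ S, φ (∏ g ∈ G, D g) * x ∈ φ.range := by
    intro x hx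
    have hx' : x ∈ Submodule.span R (G : Set K) := by rw [hG]; exact hx
    induction hx' using Submodule.span_induction with
    | mem g hg =>
      rw [← Finset.prod_erase_mul _ _ hg, map_mul, mul_assoc]
      exact φ.range.mul_mem ⟨_, rfl⟩ (hD' g (hGS g hg))
    | zero => rw [mul_zero]; exact φ.range.zero_mem
    | add x y hx hy h1 h2 =>
      rw [mul_add]
      refine φ.range.add_mem (h1 ?_) (h2 ?_) <;>
        (rw [← Subalgebra.mem_toSubmodule, ← hG]; assumption)
    | smul r x hx h =>
      rw [Algebra.smul_def, mul_left_comm]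
      refine φ.range.mul_mem ⟨_, rfl⟩ (h ?_)
      rw [← Subalgebra.mem_toSubmodule, ← hG]; assumption
  have hmem : ∏ g ∈ G, D g ∈ c := fun y => by
    rw [MulMemClass.coe_mul, Subalgebra.coe_algebraMap]; exact hX _ y.2
  exact (p.primeCompl.prod_mem fun g hg => hD g (hGS g hg)) (hcp hmem)

/-- A rank one idempotent over a polynomial ring over a seminormal domain splits where a diagonal constant
coefficient is invertible. -/
theorem exists_split_near (hR : HTop.IsSeminormalRing R) {N : ℕ} (P : Fin N → Fin N → R[X])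
    (hrel : ∀ a b c d, P a b * P c d = P a d * P c b) (htr : ∑ j, P j j = 1) (a₀ : Fin N)
    (hu : IsUnit ((P a₀ a₀).coeff 0)) :
    ∃ v w : Fin N → R[X], ∀ a b, P a b = v a * w b := by
  classical
  let K := FractionRing R
  let φ := algebraMap R K
  have hφ : Function.Injective φ := IsFractionRing.injective R K
  obtain ⟨v, w, hvw⟩ := exists_split_field (fun a b => (P a b).map φ)
    (fun a b c d => by rw [← Polynomial.map_mul, ← Polynomial.map_mul, hrel])
    (by rw [← Polynomial.map_sum, htr, Polynomial.map_one])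
  obtain ⟨u, hu⟩ := hu
  have hc : (v a₀).coeff 0 * (w a₀).coeff 0 = φ u := by
    rw [← Polynomial.mul_coeff_zero, ← hvw, Polynomial.coeff_map, hu]
  have hne : φ u ≠ 0 := fun h => u.ne_zero (hφ (h.trans (map_zero φ).symm))
  have hv0 : (v a₀).coeff 0 ≠ 0 := fun h => hne (by rw [← hc, h, zero_mul])
  let l := (v a₀).coeff 0
  -- normalise, and add one index making both normalisations possible
  let V : Fin (N + 1) → K[X] := Fin.snoc (fun a => Polynomial.C l⁻¹ * v a) 0
  let W : Fin (N + 1) → K[X] := Fin.snoc (fun b => Polynomial.C l * w b)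
    (Polynomial.C (φ (↑u⁻¹ : R)) * (Polynomial.C l * w a₀))
  have hlw : Polynomial.C l⁻¹ * Polynomial.C l = (1 : K[X]) := by
    rw [← Polynomial.C_mul, inv_mul_cancel₀ hv0, Polynomial.C_1]
  have hVW : ∀ (a : Fin N) (b : Fin N), V a.castSucc * W b.castSucc = (P a b).map φ := fun a b => by
    simp only [V, W, Fin.snoc_castSucc]
    rw [show Polynomial.C l⁻¹ * v a * (Polynomial.C l * w b) = Polynomial.C l⁻¹ * Polynomial.C l * (v a * w b) by ring,
      hlw, one_mul, hvw]
  have hPV : ∀ a b n, (V a * W b).coeff n ∈ φ.range := by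
    intro a b n
    induction a using Fin.lastCases with
    | last => simp only [V, Fin.snoc_last, zero_mul, Polynomial.coeff_zero]; exact φ.range.zero_mem
    | cast a =>
      induction b using Fin.lastCases with
      | cast b => rw [hVW, Polynomial.coeff_map]; exact ⟨_, rfl⟩
      | last =>
        have : V a.castSucc * W (Fin.last N) = Polynomial.C (φ (↑u⁻¹ : R)) * (P a a₀).map φ := by
          rw [← hVW]
          simp only [W, Fin.snoc_last, Fin.snoc_castSucc]
          ring
        rw [this, Polynomial.coeff_C_mul, Polynomial.coeff_map]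
        exact φ.range.mul_mem ⟨_, rfl⟩ ⟨_, rfl⟩
  have hsum : ∑ j, V j * W j = 1 := by
    rw [Fin.sum_univ_castSucc]
    simp only [hVW]
    rw [← Polynomial.map_sum, htr, Polynomial.map_one, show V (Fin.last N) = 0 from Fin.snoc_last _ _, zero_mul,
      add_zero]
  have hV1 : (V a₀.castSucc).coeff 0 = 1 := by
    simp only [V, Fin.snoc_castSucc, Polynomial.coeff_C_mul]
    exact inv_mul_cancel₀ hv0
  have hW1 : (W (Fin.last N)).coeff 0 = 1 := by
    simp only [W, Fin.snoc_last, Polynomial.coeff_C_mul]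
    rw [show l * (w a₀).coeff 0 = φ u from hc, ← map_mul, Units.inv_mul, map_one]
  have hVc := coeff_mem_range hR V W hPV hsum a₀.castSucc (Fin.last N) hV1 hW1
  have hWc := coeff_mem_range hR W V (fun a b n => by rw [mul_comm]; exact hPV b a n)
    (by rw [← hsum]; exact Finset.sum_congr rfl fun j _ => mul_comm _ _) (Fin.last N) a₀.castSucc hW1 hV1
  choose vR hvR using fun a : Fin N => (Polynomial.mem_lifts _).1
    ((Polynomial.lifts_iff_coeff_lifts _).2 fun n => hVc a.castSucc n)
  choose wR hwR using fun b : Fin N => (Polynomial.mem_lifts _).1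
    ((Polynomial.lifts_iff_coeff_lifts _).2 fun n => hWc b.castSucc n)
  exact ⟨vR, wR, fun a b => Polynomial.map_injective φ hφ (by rw [Polynomial.map_mul, hvR, hwR, hVW])⟩

end Groth.Agent.SwanPic
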